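import Groth.Agent.S1975
import Groth.Agent.Hensel.HenselizationMore
import Groth.Agent.Hensel.HenselizationProps
import Groth.Agent.Hensel.EnvelopeStage
import Groth.Agent.Hensel.HenselizationNoeth
import Groth.Agent.TameAbh.Steps
import Mathlib

/-!
# Strict henselizations of discrete valuation rings, and valuation rings of algebraically closed fields
-/

set_option autoImplicit false
set_option linter.style.haveILetI false
set_option maxHeartbeats 800000

universe u

open IsLocalRing Polynomial
open scoped TensorProduct

namespace Groth.Agent.EtRamSh7162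

/-- the strict henselization of a DVR -/
theorem exists_strict_dvr (A : Type u) [CommRing A] [IsDomain A] [IsDiscreteValuationRing A] :
    ∃ (S : Type u) (_ : CommRing S) (_ : IsDomain S) (_ : IsDiscreteValuationRing S) (_ : Algebra A S)
      (_ : IsLocalHom (algebraMap A S)), Hensel.IsStrictHenselization A S ∧
      Function.Injective (algebraMap A S) ∧ (maximalIdeal A).map (algebraMap A S) = maximalIdeal S := by
  obtain ⟨hloc, hS⟩ := Hensel.exists_strictHenselization A
  let S := Hensel.Env A (SeparableClosure (ResidueField A))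
  haveI := hloc
  haveI := hS
  obtain ⟨hdom, hval, hinj, -⟩ := S1975.result A S (Or.inr hS)
  haveI := hdom
  haveI := hval hdom
  haveI : IsNoetherianRing S := Hensel.isNoetherianRing_env A (SeparableClosure (ResidueField A))
  haveI : IsBezout S := (ValuationRing.iff_local_bezout_domain.1 (hval hdom)).2
  haveI : IsPrincipalIdealRing S := ⟨fun I => IsBezout.isPrincipal_of_FG I (IsNoetherian.noetherian I)⟩
  have hmax := Hensel.strictHenselization_map_maximalIdeal A S
  have hd : IsDiscreteValuationRing S :=
    { not_a_field' := fun h => IsDiscreteValuationRing.not_a_field A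
        ((Ideal.map_eq_bot_iff_of_injective hinj).1 (hmax.trans h)) }
  exact ⟨S, inferInstance, hdom, hd, inferInstance, hloc, hS, hinj, hmax⟩

/-- the residue extension of a strict henselization is geometrically reduced -/
theorem geomReduced_residue (A S : Type u) [CommRing A] [IsLocalRing A] [CommRing S] [IsLocalRing S] [Algebra A S]
    [IsLocalHom (algebraMap A S)] [hS : Hensel.IsStrictHenselization A S] :
    Algebra.IsGeometricallyReduced (ResidueField A) (ResidueField S) :=
  haveI : Algebra.IsSeparable (ResidueField A) (ResidueField S) := hS.isSepClosure.separable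
  TameAbh.isGeometricallyReduced_of_isSeparable _ _

theorem isSeparable_of_etale_point {A P K F : Type u} [CommRing A] [CommRing P] [Algebra A P] [Algebra.Etale A P]
    [Field K] [Algebra A K] [Field F] [Algebra A F] [Algebra K F] [IsScalarTower A K F] (g : P →ₐ[A] F) (b : P) :
    IsSeparable K (g b) := by
  let g' : K ⊗[A] P →ₐ[K] F := Algebra.TensorProduct.lift (Algebra.ofId K F) g fun _ _ => .all _ _
  haveI : Algebra.FormallyUnramified K g'.range :=
    Algebra.FormallyUnramified.of_surjective g'.rangeRestrict g'.rangeRestrict_surjective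
  haveI : Algebra.FiniteType K g'.range :=
    Algebra.FiniteType.of_surjective g'.rangeRestrict g'.rangeRestrict_surjective
  haveI : Module.Finite K g'.range := Algebra.FormallyUnramified.finite_of_free K _
  letI : Field g'.range := (isField_of_isIntegral_of_isField' (Field.toIsField K)).toField
  haveI : Algebra.IsSeparable K g'.range := Algebra.FormallyUnramified.isSeparable K g'.range
  have h1 : g b = g'.range.val (g'.rangeRestrict (1 ⊗ₜ b)) := by
    show g b = g' (1 ⊗ₜ b)
    rw [Algebra.TensorProduct.lift_tmul, map_one, one_mul]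
  rw [h1]
  exact IsSeparable.map g'.range.val Subtype.val_injective (Algebra.IsSeparable.isSeparable K _)

/-- the fraction field of a strict henselization is separable algebraic -/
theorem isSeparable_fraction (A S K F : Type u) [CommRing A] [IsDomain A] [IsLocalRing A] [CommRing S] [IsDomain S]
    [IsLocalRing S] [Algebra A S] [IsLocalHom (algebraMap A S)] [Hensel.IsStrictHenselization A S]
    [Field K] [Algebra A K] [IsFractionRing A K] [Field F] [Algebra S F] [IsFractionRing S F]
    [Algebra A F] [IsScalarTower A S F] [Algebra K F] [IsScalarTower A K F] : Algebra.IsSeparable K F := by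
  obtain ⟨e⟩ := Hensel.strictHenselization_equiv A S
  let κ := SeparableClosure (ResidueField A)
  haveI := Hensel.flat_env A κ
  have hg : ∀ z : Hensel.Env A κ, IsSeparable K (algebraMap S F (e.symm z)) := by
    intro z
    obtain ⟨P, T, _, _, _, ψ, χ, h1, -, -, hzm⟩ := Hensel.exists_local_stage A κ (Hensel.envRes A κ)
      (Hensel.envRes_eq_zero_iff A κ) (IsScalarTower.toAlgHom A (Hensel.EnvTop A κ) (Hensel.Env A κ))
      (Hensel.envRes_algebraMap A κ) (Hensel.env_hloc A κ) ![z]
    obtain ⟨y, hy⟩ := hzm 0
    simp only [Matrix.cons_val_fin_one] at hy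
    subst hy
    obtain ⟨b, c, hc, hbc⟩ := h1 y
    let g : P.Ring →ₐ[A] F := ((IsScalarTower.toAlgHom A S F).comp e.symm.toAlgHom).comp (χ.comp ψ)
    have hgc : g c ≠ 0 := by
      show algebraMap S F (e.symm (χ (ψ c))) ≠ 0
      rw [Ne, map_eq_zero_iff _ (IsFractionRing.injective S F)]
      exact ((hc.map χ).map e.symm).ne_zero
    have h2 : algebraMap S F (e.symm (χ y)) = g b * (g c)⁻¹ := by
      rw [eq_mul_inv_iff_mul_eq₀ hgc]
      show algebraMap S F (e.symm (χ y)) * algebraMap S F (e.symm (χ (ψ c))) = algebraMap S F (e.symm (χ (ψ b)))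
      rw [← map_mul, ← map_mul, ← map_mul, hbc]
    rw [h2]
    exact Field.isSeparable_mul (isSeparable_of_etale_point g b)
      (Field.isSeparable_inv (isSeparable_of_etale_point g c))
  refine ⟨fun x => ?_⟩
  obtain ⟨a, b, -, rfl⟩ := IsFractionRing.div_surjective (A := S) x
  rw [div_eq_mul_inv, ← e.symm_apply_apply a, ← e.symm_apply_apply b]
  exact Field.isSeparable_mul (hg _) (Field.isSeparable_inv (hg _))

variable {Ω : Type u} [Field Ω] [IsAlgClosed Ω] (V : ValuationSubring Ω)

theorem exists_roots (f : V[X]) (hf : f.Monic) :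
    ∃ s : Multiset V, f = (s.map fun a => X - C a).prod := by
  haveI : IsIntegrallyClosed V := inferInstance
  let fΩ := f.map (algebraMap V Ω)
  have hs : fΩ.Splits := IsAlgClosed.splits fΩ
  have hmem : ∀ r ∈ fΩ.roots, r ∈ V := fun r hr => by
    have hint : IsIntegral V r := ⟨f, hf, by
      have := (Polynomial.mem_roots'.1 hr).2
      rwa [Polynomial.IsRoot, Polynomial.eval_map] at this⟩
    obtain ⟨y, hy⟩ := IsIntegrallyClosed.isIntegral_iff.1 hint
    exact hy ▸ y.2
  let s : Multiset V := fΩ.roots.pmap (fun r h => ⟨r, h⟩) hmem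
  refine ⟨s, Polynomial.map_injective (algebraMap V Ω) Subtype.val_injective ?_⟩
  show fΩ = _
  rw [hs.eq_prod_roots, (hf.map _).leadingCoeff, map_one, one_mul, Polynomial.map_multiset_prod,
    Multiset.map_map]
  congr 1
  show _ = Multiset.map _ (fΩ.roots.pmap _ hmem)
  rw [Multiset.map_pmap]
  refine ((Multiset.pmap_eq_map (fun r => r ∈ V) (fun r : Ω => X - C r) fΩ.roots hmem).symm.trans ?_)
  exact Multiset.pmap_congr _ fun r _ _ _ => by simp

theorem henselian_valuationSubring : HenselianLocalRing V := by
  refine { is_henselian := fun f hf a₀ h₀ _ => ?_ }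
  obtain ⟨s, rfl⟩ := exists_roots V f hf
  rw [Polynomial.eval_multiset_prod, Multiset.map_map] at h₀
  obtain ⟨a, ha, hm⟩ := (Ideal.IsPrime.multiset_prod_mem_iff_exists_mem inferInstance _).1 h₀
  obtain ⟨r, hr, rfl⟩ := Multiset.mem_map.1 ha
  refine ⟨r, ?_, ?_⟩
  · rw [Polynomial.IsRoot, Polynomial.eval_multiset_prod, Multiset.map_map, Multiset.prod_eq_zero_iff]
    exact Multiset.mem_map.2 ⟨r, hr, by simp⟩
  · rw [← neg_sub]
    exact neg_mem (by simpa using hm)

theorem isAlgClosed_residue : IsAlgClosed (ResidueField V) := by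
  refine IsAlgClosed.of_exists_root _ fun q hq hirr => ?_
  obtain ⟨f, hfq, hdeg, hf⟩ := Polynomial.lifts_and_degree_eq_and_monic
    ((Polynomial.mem_lifts q).2 (Polynomial.map_surjective (residue V) residue_surjective q)) hq
  obtain ⟨s, hs⟩ := exists_roots V f hf
  have hne : s ≠ 0 := fun h => by
    rw [h, Multiset.map_zero, Multiset.prod_zero] at hs
    rw [hs, Polynomial.map_one] at hfq
    exact hirr.not_isUnit (hfq ▸ isUnit_one)
  obtain ⟨r, hr⟩ := Multiset.exists_mem_of_ne_zero hne
  refine ⟨residue V r, ?_⟩
  rw [← hfq, Polynomial.eval_map, Polynomial.eval₂_at_apply, hs, Polynomial.eval_multiset_prod,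
    Multiset.map_map, Multiset.prod_eq_zero (Multiset.mem_map.2 ⟨r, hr, by simp⟩), map_zero]

end Groth.Agent.EtRamSh7162
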