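import Groth.Agent.EtRamSh7162.Enlarge
import Groth.Agent.EtRamSh7162.Strict
import Mathlib

/-!
# Solutions descend from strict henselizations
-/

set_option autoImplicit false
set_option linter.style.haveILetI false
set_option maxHeartbeats 1600000

universe u

open IsLocalRing Polynomial
open scoped TensorProduct

namespace Groth.Agent.EtRamSh7162

variable {A B K L : Type u} [CommRing A] [IsDomain A] [IsDiscreteValuationRing A] [CommRing B] [IsDomain B]
  [IsDiscreteValuationRing B] [Algebra A B] [IsLocalHom (algebraMap A B)]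
  [Field K] [Field L] [Algebra A K] [IsFractionRing A K] [Algebra B L] [IsFractionRing B L] [Algebra K L]
  [Algebra A L] [IsScalarTower A K L] [IsScalarTower A B L]
  {A' B' K' L' : Type u} [CommRing A'] [IsDomain A'] [IsDiscreteValuationRing A'] [CommRing B'] [IsDomain B']
  [IsDiscreteValuationRing B'] [Algebra A A'] [IsLocalHom (algebraMap A A')]
  [Algebra B B'] [IsLocalHom (algebraMap B B')] [Hensel.IsStrictHenselization A A']
  [Hensel.IsStrictHenselization B B'] [Algebra A' B'] [IsLocalHom (algebraMap A' B')]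
  [Field K'] [Algebra A' K'] [IsFractionRing A' K'] [Field L'] [Algebra B' L'] [IsFractionRing B' L']
  [Algebra K' L'] [Algebra A' L'] [IsScalarTower A' K' L'] [IsScalarTower A' B' L']
  [Algebra K K'] [Algebra A K'] [IsScalarTower A K K'] [IsScalarTower A A' K']
  [Algebra L L'] [Algebra B L'] [IsScalarTower B L L'] [IsScalarTower B B' L']

include A B A' in
theorem descend (hinjA : Function.Injective (algebraMap A A'))
    (hmaxA : (maximalIdeal A).map (algebraMap A A') = maximalIdeal A') [Algebra.IsSeparable K K']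
    (hKL : ∀ x : K, algebraMap K' L' (algebraMap K K' x) = algebraMap L L' (algebraMap K L x))
    (hinjB : Function.Injective (algebraMap B B'))
    (K₁ : Type u) [Field K₁] [Algebra K' K₁] [FiniteDimensional K' K₁]
    (hs : EtRam.IsSolution B' K' L' K₁) :
    ∃ (K₀ : Type u) (_ : Field K₀) (_ : Algebra K K₀), FiniteDimensional K K₀ ∧
      (Algebra.IsSeparable K' K₁ → Algebra.IsSeparable K K₀) ∧ EtRam.IsSolution B K L K₀ := by
  classical
  letI aKK₁ : Algebra K K₁ := ((algebraMap K' K₁).comp (algebraMap K K')).toAlgebra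
  haveI : IsScalarTower K K' K₁ := IsScalarTower.of_algebraMap_eq fun _ => rfl
  haveI : Algebra.IsAlgebraic K K₁ := Algebra.IsAlgebraic.trans K K' K₁
  let Ω₀ := AlgebraicClosure K₁
  haveI : IsScalarTower K K' Ω₀ := IsScalarTower.of_algebraMap_eq fun x => by
    rw [IsScalarTower.algebraMap_apply K K₁ Ω₀, IsScalarTower.algebraMap_apply K K' K₁,
      ← IsScalarTower.algebraMap_apply K' K₁ Ω₀]
  haveI : Algebra.IsAlgebraic K Ω₀ := Algebra.IsAlgebraic.trans K K₁ Ω₀
  haveI : Algebra.IsAlgebraic K' Ω₀ := Algebra.IsAlgebraic.trans K' K₁ Ω₀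
  obtain ⟨t, ht⟩ := (Module.Finite.fg_top : (⊤ : Submodule K' K₁).FG)
  let E₀ : IntermediateField K Ω₀ := IntermediateField.adjoin K (algebraMap K₁ Ω₀ '' (t : Set K₁))
  haveI : FiniteDimensional K E₀ := by
    haveI : Finite (algebraMap K₁ Ω₀ '' (t : Set K₁)) := (t.finite_toSet.image _).to_subtype
    exact IntermediateField.finiteDimensional_adjoin fun x _ => Algebra.IsIntegral.isIntegral x
  let N : IntermediateField K Ω₀ := IntermediateField.normalClosure K E₀ Ω₀
  have hE₀N : E₀ ≤ N := IntermediateField.le_normalClosure E₀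
  haveI : FiniteDimensional K N := inferInstance
  haveI hnorm : Normal K N := inferInstance
  let bN := Module.finBasis K N
  let N'' : IntermediateField K' Ω₀ := IntermediateField.adjoin K' (Set.range fun i => (bN i : Ω₀))
  haveI : FiniteDimensional K' N'' := IntermediateField.finiteDimensional_adjoin
    fun x _ => Algebra.IsIntegral.isIntegral x
  have hNN : ∀ x : N, (x : Ω₀) ∈ N'' := fun x => by
    rw [← bN.sum_repr x, AddSubmonoidClass.coe_finset_sum]
    refine sum_mem fun i _ => ?_
    show ((bN.repr x i • bN i : N) : Ω₀) ∈ N''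
    rw [IntermediateField.coe_smul, Algebra.smul_def, IsScalarTower.algebraMap_apply K K' Ω₀]
    exact mul_mem (IntermediateField.algebraMap_mem _ _) (IntermediateField.subset_adjoin K' _ ⟨i, rfl⟩)
  have hK₁N : ∀ x : K₁, algebraMap K₁ Ω₀ x ∈ N'' := fun x => by
    have hx : x ∈ Submodule.span K' (t : Set K₁) := ht ▸ Submodule.mem_top
    induction hx using Submodule.span_induction with
    | mem y hy => exact hNN ⟨_, hE₀N (IntermediateField.subset_adjoin K _ ⟨y, hy, rfl⟩)⟩
    | zero => rw [map_zero]; exact zero_mem _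
    | add a b _ _ ha hb => rw [map_add]; exact add_mem ha hb
    | smul r a _ ha =>
      rw [Algebra.smul_def, map_mul, ← IsScalarTower.algebraMap_apply K' K₁ Ω₀]
      exact mul_mem (IntermediateField.algebraMap_mem _ _) ha
  letI aK₁N : Algebra K₁ N'' := (RingHom.codRestrict (algebraMap K₁ Ω₀) N'' hK₁N).toAlgebra
  haveI : IsScalarTower K' K₁ N'' := IsScalarTower.of_algebraMap_eq fun x =>
    Subtype.ext (IsScalarTower.algebraMap_apply K' K₁ Ω₀ x)
  have hs'' : EtRam.IsSolution B' K' L' N'' := isSolution_enlarge (A := A') N'' hs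
  let incl : N →+* N'' := RingHom.codRestrict N.val.toRingHom N'' hNN
  letI aNN : Algebra N N'' := incl.toAlgebra
  letI aKN'' : Algebra K N'' := ((algebraMap K' N'').comp (algebraMap K K')).toAlgebra
  haveI : IsScalarTower K K' N'' := IsScalarTower.of_algebraMap_eq fun _ => rfl
  haveI : IsScalarTower K N N'' := IsScalarTower.of_algebraMap_eq fun x =>
    Subtype.ext (IsScalarTower.algebraMap_apply K K' Ω₀ x).symm
  haveI := geomReduced_residue A A'
  have hsN : EtRam.IsSolution A' K K' N := EtSol.isSolution (A := A) (B := A') (K := K) (L := K') hinjA hmaxA N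
  refine ⟨N, inferInstance, inferInstance, inferInstance, fun h => ?_, ?_⟩
  · haveI := h
    haveI : Algebra.IsSeparable K K₁ := Algebra.IsSeparable.trans K K' K₁
    haveI : Algebra.IsSeparable K E₀ := (IntermediateField.isSeparable_adjoin_iff_isSeparable K Ω₀).2
      fun x ⟨y, _, hy⟩ => hy ▸ IsSeparable.map (IsScalarTower.toAlgHom K K₁ Ω₀) (algebraMap K₁ Ω₀).injective
        (Algebra.IsSeparable.isSeparable K y)
    refine (le_separableClosure_iff K Ω₀ N).1 (normalClosure_le_iff.2 fun f => ?_)
    rintro _ ⟨y, rfl⟩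
    exact IsSeparable.map f f.toRingHom.injective (Algebra.IsSeparable.isSeparable K y)
  rw [isSolution_iff] at hs'' hsN ⊢
  intro M _ _ _ _ _ _ hgen W hW
  have hfin : FiniteDimensional L M := by
    let φ : TensorProduct K L N →ₐ[L] M := Algebra.TensorProduct.lift (Algebra.ofId L M)
      (IsScalarTower.toAlgHom K N M) fun _ _ => mul_comm _ _
    have hsur : Function.Surjective φ := by
      rw [← AlgHom.range_eq_top, eq_top_iff, ← hgen, Algebra.adjoin_le_iff]
      rintro _ ⟨z, rfl⟩
      exact ⟨1 ⊗ₜ z, (Algebra.TensorProduct.lift_tmul _ _ _ _ _).trans (by rw [map_one, one_mul]; rfl)⟩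
    exact Module.Finite.of_surjective φ.toLinearMap hsur
  let Ω := AlgebraicClosure M
  let e : M →+* Ω := algebraMap M Ω
  obtain ⟨V₀, hV₀⟩ := EtRamTower.exists_comap_eq e W
  haveI := henselian_valuationSubring V₀
  haveI := isAlgClosed_residue V₀
  have hB : EtRam.Dominates B (e.comp ((algebraMap L M).comp (algebraMap B L))) V₀ :=
    (EtRamTower.dominates_comap_iff e _ V₀).1 (hV₀ ▸ hW)
  let fB : B →+* V₀ := RingHom.codRestrict (e.comp ((algebraMap L M).comp (algebraMap B L))) _ hB.1
  haveI : IsLocalHom fB := EtRamTower.isLocalHom_codRestrict _ _ hB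
  letI aκ : Algebra (ResidueField B) (ResidueField V₀) := (ResidueField.map fB).toAlgebra
  haveI := (Hensel.IsStrictHenselization.isSepClosure (R := B) (S := B')).separable
  let τ : ResidueField B' →ₐ[ResidueField B] ResidueField V₀ := IsAlgClosed.lift
  obtain ⟨gB, ⟨hgB, hgres⟩, -⟩ := Hensel.IsStrictHenselization.universal (R := B) (S := B') V₀ fB τ.toRingHom
    (RingHom.ext fun x => τ.commutes x)
  haveI : IsLocalHom gB := ⟨fun x hx => by
    by_contra hu
    have h1 := hgres x
    rw [(residue_eq_zero_iff x).2 hu, map_zero, residue_eq_zero_iff] at h1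
    exact h1 hx⟩
  have hgΩ : Function.Injective (V₀.subtype.comp gB) := by
    rw [injective_iff_map_eq_zero]
    intro x hx
    by_contra hx0
    obtain ⟨π, hπ⟩ := IsDiscreteValuationRing.exists_irreducible B
    have hπ' : algebraMap B B' π ≠ 0 := fun h => hπ.ne_zero (hinjB (by rw [h, map_zero]))
    obtain ⟨ϖ, hϖ⟩ := IsDiscreteValuationRing.exists_irreducible B'
    obtain ⟨n, u, rfl⟩ := IsDiscreteValuationRing.eq_unit_mul_pow_irreducible hx0 hϖ
    obtain ⟨m, v, hv⟩ := IsDiscreteValuationRing.eq_unit_mul_pow_irreducible hπ' hϖ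
    rw [map_mul, map_pow, mul_eq_zero] at hx
    have hϖ0 : V₀.subtype (gB ϖ) = 0 := by
      rcases hx with h | h
      · exact absurd h (IsUnit.ne_zero ((u.isUnit.map gB).map V₀.subtype))
      · exact (pow_eq_zero_iff'.1 h).1
    have hm : m ≠ 0 := fun h => by
      have : IsUnit (algebraMap B B' π) := by rw [hv, h, pow_zero, mul_one]; exact v.isUnit
      exact hπ.not_isUnit (isUnit_of_map_unit (algebraMap B B') π this)
    have h0 : V₀.subtype (fB π) = 0 := by
      rw [← hgB, RingHom.comp_apply, hv, map_mul, map_mul, map_pow, map_pow, hϖ0, zero_pow hm, mul_zero]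
    exact hπ.ne_zero (IsFractionRing.injective B L ((algebraMap L M).injective (e.injective (by
      rw [map_zero, map_zero, map_zero]; exact h0))))
  let σ : L' →+* Ω := IsFractionRing.lift hgΩ
  have hσ : ∀ x : B', σ (algebraMap B' L' x) = (gB x : Ω) := fun x => IsFractionRing.lift_algebraMap hgΩ x
  have hσL : ∀ x : L, σ (algebraMap L L' x) = e (algebraMap L M x) := fun x => by
    have : σ.comp (algebraMap L L') = e.comp (algebraMap L M) :=
      IsLocalization.ringHom_ext (nonZeroDivisors B) (RingHom.ext fun b => by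
        show σ (algebraMap L L' (algebraMap B L b)) = e (algebraMap L M (algebraMap B L b))
        rw [← IsScalarTower.algebraMap_apply B L L', IsScalarTower.algebraMap_apply B B' L', hσ]
        exact congrArg Subtype.val (RingHom.congr_fun hgB b))
    exact RingHom.congr_fun this x
  letI aK'Ω : Algebra K' Ω := (σ.comp (algebraMap K' L')).toAlgebra
  letI aL'Ω : Algebra L' Ω := σ.toAlgebra
  haveI : IsScalarTower K' L' Ω := IsScalarTower.of_algebraMap_eq fun _ => rfl
  let σ₀ : Ω₀ →ₐ[K'] Ω := IsAlgClosed.lift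
  let φ : N →+* Ω := σ₀.toRingHom.comp N.val.toRingHom
  let ι : N →+* Ω := e.comp (algebraMap N M)
  have hφK : ∀ c : K, φ (algebraMap K N c) = ι (algebraMap K N c) := fun c => by
    show σ₀ (algebraMap K Ω₀ c) = e (algebraMap N M (algebraMap K N c))
    rw [IsScalarTower.algebraMap_apply K K' Ω₀, σ₀.commutes, ← IsScalarTower.algebraMap_apply K N M,
      IsScalarTower.algebraMap_apply K L M, ← hσL, ← hKL]
    rfl
  have hrange : ∀ x : N, ∃ y : N, ι y = φ x := fun x => by
    have hsp := Normal.splits hnorm x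
    have h0 : ((minpoly K x).map (algebraMap K N)).eval x = 0 := by
      rw [eval_map_algebraMap]; exact minpoly.aeval K x
    have h1 : (((minpoly K x).map (algebraMap K N)).map ι).eval (φ x) = 0 := by
      rw [Polynomial.map_map, show ι.comp (algebraMap K N) = φ.comp (algebraMap K N) from
        RingHom.ext fun c => (hφK c).symm, ← Polynomial.map_map, Polynomial.eval_map, Polynomial.eval₂_at_apply,
        h0, map_zero]
    rw [hsp.eq_prod_roots, ((minpoly.monic (Algebra.IsIntegral.isIntegral x)).map _).leadingCoeff, map_one, one_mul,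
      Polynomial.map_multiset_prod, Multiset.map_map, Polynomial.eval_multiset_prod, Multiset.map_map,
      Multiset.prod_eq_zero_iff] at h1
    obtain ⟨r, -, hr⟩ := Multiset.mem_map.1 h1
    refine ⟨r, ?_⟩
    simp only [Function.comp_apply, Polynomial.map_sub, Polynomial.map_X, Polynomial.map_C, Polynomial.eval_sub,
      Polynomial.eval_X, Polynomial.eval_C, sub_eq_zero] at hr
    exact hr.symm
  choose γ hγ using hrange
  let γh : N →ₐ[K] N :=
    { toFun := γ
      map_one' := ι.injective (by rw [hγ, map_one, map_one])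
      map_mul' := fun a b => ι.injective (by rw [hγ, map_mul, map_mul, hγ, hγ])
      map_zero' := ι.injective (by rw [hγ, map_zero, map_zero])
      map_add' := fun a b => ι.injective (by rw [hγ, map_add, map_add, hγ, hγ])
      commutes' := fun c => ι.injective (by rw [hγ, hφK]) }
  let γe : N ≃ₐ[K] N := AlgEquiv.ofBijective γh
    ⟨γh.toRingHom.injective, (LinearMap.injective_iff_surjective (f := γh.toLinearMap)).1 γh.toRingHom.injective⟩
  have hγe : ∀ x, ι (γe x) = φ x := hγ
  let M' : IntermediateField L' Ω := IntermediateField.adjoin L' (Set.range fun z : N'' => σ₀ (z : Ω₀))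
  have hM' : M'.toSubalgebra = Algebra.adjoin L' (Set.range fun z : N'' => σ₀ (z : Ω₀)) :=
    IntermediateField.adjoin_toSubalgebra_of_isAlgebraic (by
      rintro _ ⟨z, rfl⟩
      exact IsAlgebraic.tower_top (K := K') (A := Ω) L' ((Algebra.IsAlgebraic.isAlgebraic (z : Ω₀)).algHom σ₀))
  let f'' : N'' →+* M' := RingHom.codRestrict (σ₀.toRingHom.comp N''.val.toRingHom) M'
    fun z => IntermediateField.subset_adjoin L' _ ⟨z, rfl⟩
  letI aN''M' : Algebra N'' M' := f''.toAlgebra
  letI aK'M' : Algebra K' M' := ((algebraMap L' M').comp (algebraMap K' L')).toAlgebra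
  haveI : IsScalarTower K' L' M' := IsScalarTower.of_algebraMap_eq fun _ => rfl
  haveI : IsScalarTower K' N'' M' := IsScalarTower.of_algebraMap_eq fun c => Subtype.ext (σ₀.commutes c).symm
  have hgen' : Algebra.adjoin L' (Set.range (algebraMap N'' M')) = ⊤ := by
    refine Subalgebra.map_injective (f := M'.val) M'.val.toRingHom.injective ?_
    rw [AlgHom.map_adjoin, Algebra.map_top]
    have h1 : M'.val '' Set.range (algebraMap N'' M') = Set.range fun z : N'' => σ₀ (z : Ω₀) := by
      rw [← Set.range_comp]; rfl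
    rw [h1, ← hM']
    ext x
    exact ⟨fun hx => ⟨⟨x, hx⟩, rfl⟩, fun ⟨y, hy⟩ => hy ▸ y.2⟩
  let W' : ValuationSubring M' := V₀.comap M'.val.toRingHom
  have hW' : EtRam.Dominates B' ((algebraMap L' M').comp (algebraMap B' L')) W' := by
    refine (EtRamTower.dominates_comap_iff M'.val.toRingHom _ V₀).2 ?_
    exact TameAbh.dominates_of_isLocalHom _ V₀ gB fun x => (hσ x).symm
  have hG₁ : Good f'' W' := hs'' M' hgen' W' hW'
  have hgenN : Algebra.adjoin K' (Set.range (algebraMap N N'')) = ⊤ := by
    refine Subalgebra.map_injective (f := N''.val) N''.val.toRingHom.injective ?_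
    rw [AlgHom.map_adjoin, Algebra.map_top]
    have h1 : N''.val '' Set.range (algebraMap N N'') = Set.range fun x : N => (x : Ω₀) := by
      rw [← Set.range_comp]; rfl
    rw [h1]
    refine le_antisymm (Algebra.adjoin_le ?_) ?_
    · rintro _ ⟨x, rfl⟩
      exact ⟨⟨_, hNN x⟩, rfl⟩
    · rintro x ⟨y, rfl⟩
      have hy : (y : Ω₀) ∈ N''.toSubalgebra := y.2
      rw [IntermediateField.adjoin_toSubalgebra_of_isAlgebraic fun x _ => Algebra.IsAlgebraic.isAlgebraic x] at hy
      refine Algebra.adjoin_mono ?_ hy
      rintro _ ⟨i, rfl⟩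
      exact ⟨bN i, rfl⟩
  have hA' : EtRam.Dominates A' ((algebraMap K' N'').comp (algebraMap A' K')) (W'.comap f'') := by
    refine (EtRamTower.dominates_comap_iff f'' _ W').2 ?_
    have hc : f''.comp ((algebraMap K' N'').comp (algebraMap A' K')) =
        ((algebraMap L' M').comp (algebraMap B' L')).comp (algebraMap A' B') := RingHom.ext fun a => by
      refine Subtype.ext ?_
      show σ₀ (algebraMap K' Ω₀ (algebraMap A' K' a)) = σ (algebraMap B' L' (algebraMap A' B' a))
      rw [σ₀.commutes, ← IsScalarTower.algebraMap_apply A' B' L', IsScalarTower.algebraMap_apply A' K' L']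
      rfl
    rw [hc]
    exact ⟨fun a => hW'.1 _, fun a ha => hW'.2 _ (map_nonunit (algebraMap A' B') a ha)⟩
  have hG₂ : Good incl (W'.comap f'') := hsN N'' hgenN (W'.comap f'') hA'
  have hG₃ : Good ((f''.comp incl).comp γe.symm.toRingEquiv.toRingHom) W' :=
    (hG₁.comp hG₂).comp (good_of_surjective γe.symm.surjective _)
  have hMmem : ∀ x : M, e x ∈ M' := fun x => by
    have hx : x ∈ Algebra.adjoin L (Set.range (algebraMap N M)) := hgen ▸ Algebra.mem_top
    induction hx using Algebra.adjoin_induction with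
    | mem y hy =>
      obtain ⟨z, rfl⟩ := hy
      show ι z ∈ M'
      rw [← γe.apply_symm_apply z, hγe]
      exact IntermediateField.subset_adjoin L' _ ⟨incl (γe.symm z), rfl⟩
    | algebraMap r => rw [← hσL]; exact IntermediateField.algebraMap_mem M' _
    | add a b _ _ ha hb => rw [map_add]; exact add_mem ha hb
    | mul a b _ _ ha hb => rw [map_mul]; exact mul_mem ha hb
  let j : M →+* M' := RingHom.codRestrict e M' hMmem
  have hfj : (f''.comp incl).comp γe.symm.toRingEquiv.toRingHom = j.comp (algebraMap N M) :=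
    RingHom.ext fun z => Subtype.ext (by
      show φ (γe.symm z) = ι z
      rw [← hγe, γe.apply_symm_apply])
  rw [hfj] at hG₃
  have hG₄ := hG₃.of_comp
  rw [show W'.comap j = W from hV₀] at hG₄
  exact hG₄

end Groth.Agent.EtRamSh7162
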