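import Groth.Agent.EtRamSh7162.Good
import Groth.Agent.TameAbh.Dominate

/-!
# Solutions are stable under enlargement
-/

set_option autoImplicit false
set_option linter.style.haveILetI false
set_option maxHeartbeats 800000

universe u

open IsLocalRing

namespace Groth.Agent.EtRamSh7162

variable {A B K L : Type u} [CommRing A] [IsDomain A] [IsDiscreteValuationRing A] [CommRing B] [IsDomain B]
  [IsDiscreteValuationRing B] [Algebra A B] [IsLocalHom (algebraMap A B)]
  [Field K] [Field L] [Algebra A K] [IsFractionRing A K] [Algebra B L] [IsFractionRing B L] [Algebra K L]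
  [Algebra A L] [IsScalarTower A K L] [IsScalarTower A B L]
  {K₁ : Type u} [Field K₁] [Algebra K K₁] [FiniteDimensional K K₁]
  (K₂ : Type u) [Field K₂] [Algebra K K₂] [Algebra K₁ K₂] [IsScalarTower K K₁ K₂] [FiniteDimensional K K₂]

include A in
theorem isSolution_enlarge (hs : EtRam.IsSolution B K L K₁) : EtRam.IsSolution B K L K₂ := by
  rw [isSolution_iff] at hs ⊢
  intro M _ _ _ _ _ _ hgen W hW
  haveI : FiniteDimensional K₁ K₂ := Module.Finite.of_restrictScalars_finite K K₁ K₂
  have hfin : FiniteDimensional L M := by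
    let φ : TensorProduct K L K₂ →ₐ[L] M := Algebra.TensorProduct.lift (Algebra.ofId L M)
      (IsScalarTower.toAlgHom K K₂ M) fun _ _ => mul_comm _ _
    have hsur : Function.Surjective φ := by
      rw [← AlgHom.range_eq_top, eq_top_iff, ← hgen, Algebra.adjoin_le_iff]
      rintro _ ⟨z, rfl⟩
      exact ⟨1 ⊗ₜ z, (Algebra.TensorProduct.lift_tmul _ _ _ _ _).trans (by rw [map_one, one_mul]; rfl)⟩
    exact Module.Finite.of_surjective φ.toLinearMap hsur
  haveI := hfin
  letI a1 : Algebra K₁ M := ((algebraMap K₂ M).comp (algebraMap K₁ K₂)).toAlgebra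
  haveI : IsScalarTower K₁ K₂ M := IsScalarTower.of_algebraMap_eq fun _ => rfl
  haveI : IsScalarTower K K₁ M := IsScalarTower.of_algebraMap_eq fun x => by
    show _ = algebraMap K₂ M (algebraMap K₁ K₂ (algebraMap K K₁ x))
    rw [← IsScalarTower.algebraMap_apply K K₁ K₂, ← IsScalarTower.algebraMap_apply]
  let E := IntermediateField.adjoin L (Set.range (algebraMap K₁ M))
  have hE : E.toSubalgebra = Algebra.adjoin L (Set.range (algebraMap K₁ M)) :=
    IntermediateField.adjoin_toSubalgebra_of_isAlgebraic fun x _ => Algebra.IsAlgebraic.isAlgebraic x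
  let f₁ : K₁ →+* E := RingHom.codRestrict (algebraMap K₁ M) E
    fun z => IntermediateField.subset_adjoin L _ ⟨z, rfl⟩
  letI a2 : Algebra K₁ E := f₁.toAlgebra
  haveI : IsScalarTower K₁ E M := IsScalarTower.of_algebraMap_eq fun _ => rfl
  haveI : IsScalarTower K K₁ E := IsScalarTower.of_algebraMap_eq fun x => Subtype.ext
    ((IsScalarTower.algebraMap_apply K L M x).symm.trans (IsScalarTower.algebraMap_apply K K₁ M x) |> fun h => by
      rw [IsScalarTower.algebraMap_apply K L E]
      exact h)
  have hgen₁ : Algebra.adjoin L (Set.range (algebraMap K₁ E)) = ⊤ := by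
    refine Subalgebra.map_injective (f := E.val) E.val.toRingHom.injective ?_
    rw [AlgHom.map_adjoin, Algebra.map_top]
    have h1 : E.val '' Set.range (algebraMap K₁ E) = Set.range (algebraMap K₁ M) := by
      rw [← Set.range_comp]; rfl
    rw [h1, ← hE]
    ext x
    exact ⟨fun hx => ⟨⟨x, hx⟩, rfl⟩, fun ⟨y, hy⟩ => hy ▸ y.2⟩
  let W₁ : ValuationSubring E := W.comap (algebraMap E M)
  have hW₁ : EtRam.Dominates B ((algebraMap L E).comp (algebraMap B L)) W₁ :=
    (EtRamTower.dominates_comap_iff (algebraMap E M) _ W).2 hW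
  have hG := hs E hgen₁ W₁ hW₁
  obtain ⟨hwu, hgr⟩ := hG
  haveI : FiniteDimensional L E := inferInstance
  haveI := TameAbh.isDVR_of_dominates (A := B) (K := L) W₁ hW₁
  let V₁ : ValuationSubring K₁ := W₁.comap (algebraMap K₁ E)
  have hV₁ : EtRam.Dominates A ((algebraMap K K₁).comp (algebraMap A K)) V₁ := by
    refine (EtRamTower.dominates_comap_iff (algebraMap K₁ E) _ W₁).2 ?_
    have hc : (algebraMap K₁ E).comp ((algebraMap K K₁).comp (algebraMap A K)) =
        ((algebraMap L E).comp (algebraMap B L)).comp (algebraMap A B) := RingHom.ext fun a => by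
      simp only [RingHom.comp_apply]
      rw [← IsScalarTower.algebraMap_apply K K₁ E, IsScalarTower.algebraMap_apply K L E,
        ← IsScalarTower.algebraMap_apply A K L, IsScalarTower.algebraMap_apply A B L]
    rw [hc]
    exact ⟨fun a => hW₁.1 _, fun a ha => hW₁.2 _ (map_nonunit (algebraMap A B) a ha)⟩
  haveI := TameAbh.isDVR_of_dominates (A := A) (K := K) V₁ hV₁
  letI a3 : Algebra V₁ W₁ := (EtRam.inclOfComap W₁ (algebraMap K₁ E)).toAlgebra
  haveI : IsLocalHom (algebraMap V₁ W₁) := EtRam.isLocalHom_inclOfComap W₁ (algebraMap K₁ E)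
  letI a4 : Algebra V₁ E := ((algebraMap K₁ E).comp (algebraMap V₁ K₁)).toAlgebra
  haveI : IsScalarTower V₁ K₁ E := IsScalarTower.of_algebraMap_eq fun _ => rfl
  haveI : IsScalarTower V₁ W₁ E := IsScalarTower.of_algebraMap_eq fun _ => rfl
  haveI : Algebra.IsGeometricallyReduced (ResidueField V₁) (ResidueField W₁) := by
    convert hgr using 1
    refine Algebra.algebra_ext _ _ fun x => ?_
    obtain ⟨y, rfl⟩ := residue_surjective x
    rfl
  have hsol := EtSol.isSolution (A := V₁) (B := W₁) (K := K₁) (L := E)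
    (fun a b h => Subtype.ext ((algebraMap K₁ E).injective (congrArg Subtype.val h))) hwu K₂
  rw [isSolution_iff] at hsol
  refine hsol M ?_ W ⟨fun w => w.2, fun w hw => ?_⟩
  · rw [eq_top_iff]
    rintro x -
    have hx : x ∈ Algebra.adjoin L (Set.range (algebraMap K₂ M)) := hgen ▸ Algebra.mem_top
    refine (?_ : Algebra.adjoin L (Set.range (algebraMap K₂ M)) ≤
      (Algebra.adjoin E (Set.range (algebraMap K₂ M))).restrictScalars L) hx
    exact Algebra.adjoin_le fun y hy => Algebra.subset_adjoin hy
  · exact (W.valuation_lt_one_iff _).1 (map_nonunit (EtRam.inclOfComap W (algebraMap E M)) w hw)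

end Groth.Agent.EtRamSh7162
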