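import Groth.Prelude.Def_EtRam
import Groth.Agent.EtSol.WeaklyUnram
import Groth.Agent.GeomRedPull.Field

/-!
# Calculus of local extensions attached to a field map
-/

set_option autoImplicit false
set_option linter.style.haveILetI false
set_option maxHeartbeats 800000

universe u

open IsLocalRing
open scoped TensorProduct

namespace Groth.Agent.EtRamSh7162

/-- Transitivity of geometric reducedness for fields. -/
theorem geomReduced_trans {k l F : Type u} [Field k] [Field l] [Field F] [Algebra k l] [Algebra l F] [Algebra k F]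
    [IsScalarTower k l F] [Algebra.IsGeometricallyReduced k l] [Algebra.IsGeometricallyReduced l F] :
    Algebra.IsGeometricallyReduced k F := by
  rw [Algebra.isGeometricallyReduced_field_iff]
  let Ω := AlgebraicClosure k
  haveI : _root_.IsReduced (l ⊗[k] Ω) :=
    isReduced_of_injective _ (Algebra.TensorProduct.comm k l Ω).injective
  haveI : _root_.IsReduced (F ⊗[l] (l ⊗[k] Ω)) := GeomRedPull.isReduced_tensor fun K _ _ => by
    haveI := GeomRedPull.isReduced_field_tensor (k := l) (A := F) K
    exact isReduced_of_injective _ (Algebra.TensorProduct.comm l F K).injective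
  haveI : _root_.IsReduced (F ⊗[k] Ω) :=
    isReduced_of_injective _ (Algebra.TensorProduct.cancelBaseChange k l F F Ω).symm.injective
  exact isReduced_of_injective _ (Algebra.TensorProduct.comm k Ω F).injective

/-- A surjective field map is geometrically reduced. -/
theorem geomReduced_of_surjective {k l : Type u} [Field k] [Field l] [Algebra k l]
    (h : Function.Surjective (algebraMap k l)) : Algebra.IsGeometricallyReduced k l := by
  haveI : Algebra.IsSeparable k l := ⟨fun x => by
    obtain ⟨a, rfl⟩ := h x
    exact isSeparable_algebraMap a⟩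
  exact TameAbh.isGeometricallyReduced_of_isSeparable k l

variable {K₁ K₂ M N : Type u} [Field K₁] [Field K₂] [Field M] [Field N]

/-- The property required of each local extension by a solution. -/
def Good (f : K₁ →+* M) (W : ValuationSubring M) : Prop :=
  letI : Algebra (W.comap f) W := (EtRam.inclOfComap W f).toAlgebra
  EtRam.IsWeaklyUnramified (W.comap f) W ∧
    @Algebra.IsGeometricallyReduced (ResidueField (W.comap f)) (ResidueField W) _ _
      (ResidueField.map (EtRam.inclOfComap W f)).toAlgebra

theorem mem_map_iff (f : K₁ →+* M) (W : ValuationSubring M) (w : W) :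
    w ∈ (maximalIdeal (W.comap f)).map (EtRam.inclOfComap W f) ↔
      ∃ a ∈ maximalIdeal (W.comap f), EtRam.inclOfComap W f a ∣ w := by
  refine ⟨fun h => ?_, fun ⟨a, ha, hd⟩ => ?_⟩
  · rw [Ideal.map] at h
    induction h using Submodule.span_induction with
    | mem x hx =>
      obtain ⟨a, ha, rfl⟩ := hx
      exact ⟨a, ha, dvd_refl _⟩
    | zero => exact ⟨0, zero_mem _, dvd_zero _⟩
    | add x y _ _ hx hy =>
      obtain ⟨a, ha, hax⟩ := hx
      obtain ⟨b, hb, hby⟩ := hy
      rcases ValuationRing.dvd_total a b with h | h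
      · exact ⟨a, ha, dvd_add hax ((map_dvd _ h).trans hby)⟩
      · exact ⟨b, hb, dvd_add ((map_dvd _ h).trans hax) hby⟩
    | smul r x _ hx =>
      obtain ⟨a, ha, hax⟩ := hx
      exact ⟨a, ha, hax.trans (Dvd.intro_left r rfl)⟩
  · obtain ⟨c, rfl⟩ := hd
    exact Ideal.mul_mem_right _ _ (Ideal.mem_map_of_mem _ ha)

theorem Good.comp {f : K₁ →+* M} {h : K₂ →+* K₁} {W : ValuationSubring M} (hW : Good f W)
    (hV : Good h (W.comap f)) : Good (f.comp h) W := by
  obtain ⟨w1, g1⟩ := hW
  obtain ⟨w2, g2⟩ := hV
  refine ⟨?_, ?_⟩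
  · show (maximalIdeal ((W.comap f).comap h)).map
      ((EtRam.inclOfComap W f).comp (EtRam.inclOfComap (W.comap f) h)) = maximalIdeal W
    rw [← Ideal.map_map]
    exact (congrArg (Ideal.map (EtRam.inclOfComap W f)) w2).trans w1
  · letI a1 : Algebra (ResidueField ((W.comap f).comap h)) (ResidueField (W.comap f)) :=
      (ResidueField.map (EtRam.inclOfComap (W.comap f) h)).toAlgebra
    letI a2 : Algebra (ResidueField (W.comap f)) (ResidueField W) :=
      (ResidueField.map (EtRam.inclOfComap W f)).toAlgebra
    letI a3 : Algebra (ResidueField ((W.comap f).comap h)) (ResidueField W) :=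
      ((ResidueField.map (EtRam.inclOfComap W f)).comp (ResidueField.map (EtRam.inclOfComap (W.comap f) h))).toAlgebra
    haveI : IsScalarTower (ResidueField ((W.comap f).comap h)) (ResidueField (W.comap f)) (ResidueField W) :=
      IsScalarTower.of_algebraMap_eq fun _ => rfl
    haveI := g1
    haveI := g2
    have h3 : @Algebra.IsGeometricallyReduced _ _ _ _ a3 :=
      geomReduced_trans (k := ResidueField ((W.comap f).comap h)) (l := ResidueField (W.comap f))
        (F := ResidueField W)
    have he2 : ResidueField.map (EtRam.inclOfComap W (f.comp h)) =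
        (ResidueField.map (EtRam.inclOfComap W f)).comp (ResidueField.map (EtRam.inclOfComap (W.comap f) h)) :=
      RingHom.ext fun x => by
        obtain ⟨y, rfl⟩ := residue_surjective x
        rfl
    exact he2 ▸ h3

theorem Good.of_comp {f : K₁ →+* M} {j : M →+* N} {V : ValuationSubring N} (hV : Good (j.comp f) V) :
    Good f (V.comap j) := by
  obtain ⟨w, g⟩ := hV
  refine ⟨?_, ?_⟩
  · show (maximalIdeal ((V.comap j).comap f)).map (EtRam.inclOfComap (V.comap j) f) = maximalIdeal (V.comap j)
    refine le_antisymm ?_ fun x hx => ?_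
    · rw [Ideal.map_le_iff_le_comap]
      exact fun a ha => map_nonunit (EtRam.inclOfComap (V.comap j) f) a ha
    have h1 : EtRam.inclOfComap V j x ∈
        (maximalIdeal (V.comap (j.comp f))).map (EtRam.inclOfComap V (j.comp f)) :=
      w.ge (map_nonunit (EtRam.inclOfComap V j) x hx)
    obtain ⟨a, ha, c, hc⟩ := (mem_map_iff _ _ _).1 h1
    have hc' : j (x : M) = j (f (a : K₁)) * (c : N) := congrArg Subtype.val hc
    rw [mem_map_iff]
    rcases eq_or_ne (a : K₁) 0 with ha0 | ha0
    · refine ⟨⟨a.1, a.2⟩, ha, ⟨0, Subtype.ext (j.injective ?_)⟩⟩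
      have h0 : j (f (a : K₁)) = 0 := by rw [ha0, map_zero, map_zero]
      rw [hc', h0, zero_mul]
      show (0 : N) = j (f (a : K₁) * 0)
      rw [mul_zero, map_zero]
    · have hfa : f (a : K₁) ≠ 0 := (map_ne_zero f).2 ha0
      have hmem : (x : M) / f (a : K₁) ∈ V.comap j := by
        rw [ValuationSubring.mem_comap, map_div₀, hc', mul_div_cancel_left₀ _ ((map_ne_zero j).2 hfa)]
        exact c.2
      exact ⟨⟨a.1, a.2⟩, ha, ⟨⟨_, hmem⟩, Subtype.ext (mul_div_cancel₀ _ hfa).symm⟩⟩
  · letI a1 : Algebra (ResidueField ((V.comap j).comap f)) (ResidueField (V.comap j)) :=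
      (ResidueField.map (EtRam.inclOfComap (V.comap j) f)).toAlgebra
    letI a2 : Algebra (ResidueField ((V.comap j).comap f)) (ResidueField V) :=
      (ResidueField.map (EtRam.inclOfComap V (j.comp f))).toAlgebra
    haveI : Algebra.IsGeometricallyReduced (ResidueField ((V.comap j).comap f)) (ResidueField V) := g
    let m : ResidueField (V.comap j) →ₐ[ResidueField ((V.comap j).comap f)] ResidueField V :=
      { toRingHom := ResidueField.map (EtRam.inclOfComap V j)
        commutes' := fun x => by
          obtain ⟨y, rfl⟩ := residue_surjective x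
          rfl }
    exact Algebra.IsGeometricallyReduced.of_injective m (RingHom.injective (ResidueField.map (EtRam.inclOfComap V j)))

theorem good_of_surjective {f : K₁ →+* M} (hf : Function.Surjective f) (W : ValuationSubring M) : Good f W := by
  have hs : Function.Surjective (EtRam.inclOfComap W f) := fun w => by
    obtain ⟨z, hz⟩ := hf w.1
    exact ⟨⟨z, by rw [ValuationSubring.mem_comap, hz]; exact w.2⟩, Subtype.ext hz⟩
  refine ⟨?_, ?_⟩
  · show (maximalIdeal (W.comap f)).map (EtRam.inclOfComap W f) = maximalIdeal W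
    refine le_antisymm ?_ fun x hx => ?_
    · rw [Ideal.map_le_iff_le_comap]
      exact fun a ha => map_nonunit (EtRam.inclOfComap W f) a ha
    obtain ⟨y, rfl⟩ := hs x
    exact Ideal.mem_map_of_mem _ fun hu => hx (hu.map _)
  · letI a1 : Algebra (ResidueField (W.comap f)) (ResidueField W) :=
      (ResidueField.map (EtRam.inclOfComap W f)).toAlgebra
    refine geomReduced_of_surjective fun z => ?_
    obtain ⟨w, rfl⟩ := residue_surjective z
    obtain ⟨y, rfl⟩ := hs w
    exact ⟨residue _ y, rfl⟩

/-- solutions, restated through `Good` -/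
theorem isSolution_iff (B : Type u) [CommRing B] [IsLocalRing B] (K L K₁ : Type u) [Field K] [Field L] [Field K₁]
    [Algebra K L] [Algebra K K₁] [Algebra B L] :
    EtRam.IsSolution B K L K₁ ↔ ∀ (M : Type u) [Field M] [Algebra K M] [Algebra L M] [Algebra K₁ M]
      [IsScalarTower K L M] [IsScalarTower K K₁ M],
      Algebra.adjoin L (Set.range (algebraMap K₁ M)) = ⊤ →
      ∀ (W : ValuationSubring M), EtRam.Dominates B ((algebraMap L M).comp (algebraMap B L)) W →
        Good (algebraMap K₁ M) W :=
  Iff.rfl

end Groth.Agent.EtRamSh7162
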